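import Cfsg.Agent.K16.Ph
import Cfsg.Agent.K16.NE
import Cfsg.Agent.Rcs.Bas

/-! S1918, case `β` (model `Aut(L₅(2))`): definitions and basic API (sub-captain helper90).

`gm` is the graph automorphism of `T₀ = UT`, `R1 x` says that `x` is a transvection,
`ZU = {1, z}`, `Q = UT.E`, `ζ = of 32`, `QZ = Q⟨ζ⟩`, `Pt = {y | gm y ∈ y ZU}` (order 32),
`P0 = C(gm)` (order 16), `DD = Q ⊓ Pt` (order 16), `D0 = Q ⊓ P0 = ⟨z, k₀, k₁⟩`, `k₀ = of 68`,
`k₁ = of 513`, `d₁ = of 258` (order 4).  `ex κ s Y = κ(Y) ⟨s⟩`.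
`Ta`: an outer element swapping `E, F`.  `Be`: the final setting in `G`.  `Bar`: the setting in
`C(z)/⟨z⟩`. -/

set_option autoImplicit false
set_option linter.unusedSectionVars false

namespace Cfsg.Agent.K16

open Subgroup Cfsg.Agent.Comp Cfsg.Agent.He5 Cfsg.Agent.SylT Cfsg.Agent.SylT.UT Cfsg.Agent.PLocal
  Cfsg.Agent.PLocal.Amb Cfsg.Agent.Gold

def GT : ℕ := 0xa4591f44d1b65d9e6499a6599f64d9b45d1e4491dc5318c471ce5799e439de5398e479cc5719c431bf5b5ef4f5ad5fdfd4bdbd5bded4fdaf5f5ff4b5c751597455d555d8541dc551d9545dd755587415a7595f74d5b55dde549da559df54ddb75d5e7495df5358f475cd57d9d43ddd53d8d47dcf5759f435bc5b1ec4f1ae5f9fe4b9be5b9ee4f9ac5f1fc4b1c451194451d655986419c651996459d455184411a9defebce7bbda7f9cafabde7e9cefb9daffbca7cad6b88c63d8d239ac2bc8d638ac6bdad2b98c23b2dcbf0cc3a0d83e2c8bb0dc3f2ccba2d8be0c83d1d4f93c47c3d0781c0fd3d4791c4fc1d0f83c07aadebe8ce3b8da3facaba8de3eacebbadabf8ca3c9d6f8bc67dbd2799c2fcbd6789c6fd9d2f9bc27b1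dcff3cc7a3d87e1c8fb3dc7f1ccfa1d8fe3c87d2d4b90c43c0d0382c0bd0d4392c4bc2d0b80c03a5d9ff7cd7b7dd7e5c9fa7d97f5cdfb5ddfe7c97ded3b8cc73ccd739ec3bdcd338ec7bced7b9cc33bedbbeccf3acdf3fecbbbcdb3eecfbaedfbfccb3c5d1f97c57d7d5785c1fc7d1795c5fd5d5f87c17a6d9bf4cd3b4dd3e6c9ba4d93f6cdbb6ddbe4c93ddd3f8fc77cfd779dc3fdfd378dc7fcdd7f9fc37bddbfefcf7afdf7fdcbfbfdb7edcffaddffffcb7c6d1b94c53d4d5386c1bc4d1396c5bd6d5b84c13a85e1e84e1ba5a9fa4a9aa5e9ea4e9b85a1f84a1c856188461da5299a429ca5698a469d852198421b35c5f34c5a158de148db15cdf14cda3585e3485d354593445c150d8140dd154d9144dc350583405ab5e5eb4e5b95adf94ada95ede94edbb5a5fb4a5cb5658b465d952d9942dc956d8946ddb5259b425b05c1f04c1a2589e2489b25c9f24c9a0581e0481d054190441c250982409d254992449c050180401a4992f68dab49d2e689aa699af48d2b69dae4892df9368d87ecf9769d83edd93e8f876cd97e9f836bc9b2ee8faac9f2fe8babe9baec8f2ae9fafc8b2c79169585ed79568581ec591e97856d595e87816a7996f58deb79d6e589ea599ef78d6b59dee7896dc9328e87ac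c9729e83ade93a8c872ce97a9c832bf9b6ed8feaf9f6fd8bebd9beef8f6ad9feff8b6c49129685ad49528681ac691a94852d695a84812a89e2ea8eab89a2fa8aaaa9eae88e2ba9aaf88a2cb9668986edb9269982ec996e8b866d992e9b826b09c2f28caa0982e288ab29caf08c2a298ae0882d39469184ec39068180ed194e93846c190e83806ab9e6e98eebb9a6f98aea99eeeb8e6b99aefb8a6c89628a86ad89229a82aca96a88862da92a98822b39c6f18cea3986e188eb19cef38c6a198ee3886d09429284ac09028280ad294a90842c290a80802a519cf50dcb51dce509ca7194f70d4b71d4e7094dd13c8d07ccd17c9d03cdf1348f074cf1749f034bd1bced0fcad1fcfd0bcbf1b4ef0f4af1f4ff0b4c511c9505cd515c8501cc711497054d715487014a6198f60d8b61d8e6098a4190f40d0b41d0e4090de1388e078ce1789e038dc1308c070cc1709c030be1b8ee0f8ae1f8fe0b8bc1b0ec0f0ac1f0fc0b0c611896058d615886018c411094050d415084010a91ece90ecb91acf90acab1e4eb0e4bb1a4fb0a4c916c8906cd912c9902ccb1648b064db1249b024b11ccf10cca118ce108cb31c4f30c4a3184e3084d114c9104cc110c8100cd314493044c310483004aa1e8ea0e8ba1a8fa0a8a81e0e80e0b81a0f80a0ca1688a068da1289a028c816088060d812098020b21c8f20c8a2188e2088b01c0f00c0a0180e0080d214892048c210882008d014090040c010080000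

/-- the underlying map of `gm` -/
def gm0 (x : UT) : UT :=
  of (Nat.land (Nat.shiftRight GT (Nat.mul (nat_lit 10) (idxT x.v))) (nat_lit 1023))

theorem gm0_chk : gm0 1 = 1 ∧ ∀ b ∈ BL, ∀ x : UT, gm0 (of b * x) = gm0 (of b) * gm0 x := by
  decide +kernel

/-- the graph automorphism -/
noncomputable def gm : UT →* UT where
  toFun := gm0
  map_one' := gm0_chk.1
  map_mul' x := by
    refine ut_ind (R := fun x => ∀ y, gm0 (x * y) = gm0 x * gm0 y) (fun y => ?_)
      (fun {a b} ha hb y => ?_) (fun b hb y => gm0_chk.2 b hb y) x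
    · rw [one_mul, gm0_chk.1, one_mul]
    · rw [mul_assoc, ha, hb, ha, mul_assoc]

theorem gm_gm : ∀ x : UT, gm (gm x) = x := by decide +kernel

theorem gm_z : gm z = z := by decide +kernel

def RTb : ℕ := 0x101000000000000010100000000000000000000000000000000000000000000010100000000000001010000100100000000000000000000100100000000000001010000000000000101000000000000000000000011000000114001100104010101004100110005fffe

/-- transvections -/
def R1 (x : UT) : Prop := Nat.land (Nat.shiftRight RTb (idxT x.v)) (nat_lit 1) = 1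

instance instDecR1 (x : UT) : Decidable (R1 x) := by unfold R1; infer_instance

/-- the list of the transvections -/
def LR1 : List UT := [1, 2, 3, 4, 5, 6, 7, 8, 9, 10, 11, 12, 13, 14, 15, 16, 18, 32, 36, 48, 54, 64, 72, 80, 90, 96, 108, 112, 126, 128, 132, 160, 164, 256, 264, 320, 328, 384, 396, 480, 492, 512, 520, 576, 584, 768, 776, 832, 840].map of

theorem mem_LR1 : ∀ x : UT, R1 x → x ∈ LR1 := by decide +kernel

abbrev ZU : Subgroup UT := msk 549774 (by decide +kernel)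
abbrev QZ : Subgroup UT := msk 8320 (by decide +kernel)

theorem mem_ZU : ∀ x : UT, x ∈ ZU ↔ x = 1 ∨ x = z := by decide +kernel

/-- elements commuting with the involution `t` and mapping `s` to `s` or `s t` -/
def Ct {H : Type*} [Group H] (t s : H) (ht : t * t = 1) : Subgroup H where
  carrier := {g | g * t = t * g ∧ (g * s = s * g ∨ g * s = s * t * g)}
  one_mem' := by simp
  mul_mem' := by
    rintro g h ⟨a, b⟩ ⟨c, d⟩
    refine ⟨by rw [mul_assoc, c, ← mul_assoc, a, mul_assoc], ?_⟩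
    rw [mul_assoc g h s]
    rcases d with d | d <;> rw [d] <;> rcases b with b | b
    · exact .inl (by rw [← mul_assoc, b, mul_assoc])
    · exact .inr (by rw [← mul_assoc, b, mul_assoc])
    · exact .inr (by rw [← mul_assoc, ← mul_assoc, b, mul_assoc s, a]; group)
    · refine .inl ?_
      rw [← mul_assoc, ← mul_assoc, b, mul_assoc (s * t), a, ← mul_assoc, mul_assoc s, ht]; group
  inv_mem' := by
    rintro g ⟨a, b⟩
    have a' : g⁻¹ * t = t * g⁻¹ := by rw [inv_mul_eq_iff_eq_mul, ← mul_assoc, a]; group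
    refine ⟨a', b.imp (fun b => ?_) fun b => ?_⟩
    · rw [inv_mul_eq_iff_eq_mul, ← mul_assoc, b]; group
    · rw [inv_mul_eq_iff_eq_mul, ← mul_assoc, ← mul_assoc, b, mul_assoc (s * t), a, ← mul_assoc,
        mul_assoc s, ht]; group

theorem mem_Ct {H : Type*} [Group H] {t s g : H} {ht : t * t = 1} :
    g ∈ Ct t s ht ↔ g * t = t * g ∧ (g * s = s * g ∨ g * s = s * t * g) := Iff.rfl

noncomputable instance instDecCt (x y : UT) : Decidable (y ∈ Ct z x z_sq) :=
  decidable_of_iff (y * x = x * y ∨ y * x = x * z * y) ⟨fun h => ⟨z_comm y, h⟩, fun h => h.2⟩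

/-- `{y | gm y ∈ y ZU}` -/
def Pt : Subgroup UT where
  carrier := {y | gm y = y ∨ gm y = y * z}
  one_mem' := .inl (map_one gm)
  mul_mem' := by
    rintro x y (a | a) (b | b) <;> simp only [Set.mem_ofPred_eq, map_mul, a, b]
    · exact .inl trivial
    · exact .inr (mul_assoc _ _ _).symm
    · exact .inr (by rw [mul_assoc, ← z_comm, mul_assoc])
    · exact .inl (by rw [mul_assoc, ← mul_assoc z, ← z_comm y, mul_assoc y, z_sq, mul_one])
  inv_mem' := by
    rintro x (a | a) <;> simp only [Set.mem_ofPred_eq, map_inv, a]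
    · exact .inl trivial
    · exact .inr (by rw [mul_inv_rev, inv_eq_of_mul_eq_one_left z_sq, z_comm])

theorem mem_Pt {y : UT} : y ∈ Pt ↔ gm y = y ∨ gm y = y * z := Iff.rfl

noncomputable instance instDecPt (y : UT) : Decidable (y ∈ Pt) :=
  inferInstanceAs (Decidable (gm y = y ∨ gm y = y * z))

/-- the fixed points of `gm` -/
noncomputable def P0 : Subgroup UT := gm.eqLocus (MonoidHom.id UT)

theorem mem_P0 {y : UT} : y ∈ P0 ↔ gm y = y := Iff.rfl

noncomputable instance instDecP0 (y : UT) : Decidable (y ∈ P0) := inferInstanceAs (Decidable (gm y = y))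

noncomputable def DD : Subgroup UT := UT.E ⊓ Pt
noncomputable def D0 : Subgroup UT := UT.E ⊓ P0

noncomputable instance instDecDD (y : UT) : Decidable (y ∈ DD) :=
  inferInstanceAs (Decidable (y ∈ UT.E ∧ y ∈ Pt))
noncomputable instance instDecD0 (y : UT) : Decidable (y ∈ D0) :=
  inferInstanceAs (Decidable (y ∈ UT.E ∧ y ∈ P0))

/-- `Y` is `gm`-invariant and contains `z` -/
def Gi (Y : Subgroup UT) : Prop := z ∈ Y ∧ ∀ y, y ∈ Y → gm y ∈ Y

theorem gi_top : Gi ⊤ := ⟨trivial, fun _ _ => trivial⟩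
theorem gi_E : Gi UT.E := by unfold Gi; decide +kernel
theorem gi_QZ : Gi QZ := by unfold Gi; decide +kernel
theorem gi_Pt : Gi Pt := by unfold Gi; decide +kernel
theorem gi_P0 : Gi P0 := by unfold Gi; decide +kernel
theorem gi_DD : Gi DD := by unfold Gi; decide +kernel
theorem gi_D0 : Gi D0 := by unfold Gi; decide +kernel

theorem card_QZ : Nat.card QZ = 256 := (card_of (· ∈ QZ)).trans (by decide +kernel)
theorem card_Pt : Nat.card Pt = 32 := (card_of (· ∈ Pt)).trans (by decide +kernel)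
theorem card_P0 : Nat.card P0 = 16 := (card_of (· ∈ P0)).trans (by decide +kernel)
theorem card_DD : Nat.card DD = 16 := (card_of (· ∈ DD)).trans (by decide +kernel)

section
variable {H : Type*} [Group H] {κ : UT →* H} {s g : H} {x y : UT} {Y : Subgroup UT}

/-- `κ(Y) ⟨s⟩` -/
noncomputable def ex (κ : UT →* H) (s : H) (Y : Subgroup UT) : Subgroup H := Y.map κ ⊔ zpowers s

theorem ex_top : ex κ s ⊤ = κ.range ⊔ zpowers s := by rw [ex, MonoidHom.range_eq_map]

theorem mem_ex_l (hy : y ∈ Y) : κ y ∈ ex κ s Y := mem_sup_left (mem_map_of_mem κ hy)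
theorem mem_ex_s : s ∈ ex κ s Y := mem_sup_right (mem_zpowers s)
theorem mem_ex_r (hy : y ∈ Y) : κ y * s ∈ ex κ s Y := mul_mem (mem_ex_l hy) mem_ex_s
theorem map_le_ex : Y.map κ ≤ ex κ s Y := le_sup_left
theorem ex_mono {Y' : Subgroup UT} (h : Y ≤ Y') : ex κ s Y ≤ ex κ s Y' :=
  sup_le_sup_right (map_mono h) _

/-- `s` is an outer element acting as `gm` -/
structure Tw (κ : UT →* H) (s : H) : Prop where
  act : ∀ x, Cg κ s x (gm x)
  out : s ∉ κ.range
  sq : s * s = 1 ∨ s * s = κ z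

namespace Tw
variable (t : Tw κ s)
include t

theorem comm (x : UT) : s * κ x = κ (gm x) * s := by rw [← t.act x]; group

theorem ne (x y : UT) : κ x ≠ κ y * s := fun e =>
  t.out ⟨y⁻¹ * x, by rw [map_mul, map_inv, e, inv_mul_cancel_left]⟩

theorem zc : s * κ z = κ z * s := by rw [t.comm, gm_z]

/-- the square of an outer element -/
theorem sq_out (x : UT) : κ x * s * (κ x * s) = κ (x * gm x) * (s * s) := by
  rw [map_mul, mul_assoc, ← mul_assoc s, t.comm]; group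

/-- conjugates of `s` -/
theorem cj_s (y : UT) : κ y * s * (κ y)⁻¹ = κ (y * (gm y)⁻¹) * s := by
  rw [mul_assoc, ← map_inv, t.comm, map_mul, map_inv, map_inv, mul_assoc]

theorem nm [Finite H] (hY : Gi Y) : s ∈ 𝐍[Y.map κ] :=
  mem_normalizer_of_cj_le (cg_map_le fun x hx => ⟨_, hY.2 x hx, t.act x⟩)

theorem sq_mem (hY : Gi Y) : s ^ 2 ∈ Y.map κ := by
  rw [pow_two]
  rcases t.sq with e | e <;> rw [e]
  exacts [one_mem _, mem_map_of_mem κ hY.1]

theorem mem_ex [Finite H] (hY : Gi Y) : g ∈ ex κ s Y ↔ ∃ y ∈ Y, g = κ y ∨ g = κ y * s := by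
  refine ⟨fun h => ?_, fun ⟨y, hy, e⟩ => e.elim (· ▸ mem_ex_l hy) (· ▸ mem_ex_r hy)⟩
  rcases (Rcs.mem_Sd (t.nm hY) (t.sq_mem hY)).1 h with ⟨y, hy, e⟩ | ⟨y, hy, e⟩
  · exact ⟨y, hy, .inl e.symm⟩
  · exact ⟨gm y, hY.2 y hy, .inr (by rw [← t.comm, e, mul_inv_cancel_left])⟩

theorem mem_T [Finite H] : g ∈ κ.range ⊔ zpowers s ↔ ∃ y, g = κ y ∨ g = κ y * s := by
  rw [← ex_top, t.mem_ex gi_top]; simp

theorem card_ex [Finite H] (hY : Gi Y) : Nat.card (ex κ s Y) = 2 * Nat.card (Y.map κ) :=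
  Rcs.card_Sd (t.nm hY) (t.sq_mem hY) fun h => t.out (map_le_range κ Y h)

theorem pg [Finite H] (hY : Gi Y) : IsPGroup 2 (ex κ s Y) := by
  obtain ⟨n, hn⟩ := IsPGroup.iff_card.1 (UT.isPGroup.to_subgroup Y |>.map κ)
  exact .of_card (n := n + 1) (by rw [t.card_ex hY, hn, pow_succ'])

end Tw

/-- the setting in `C(z)/⟨z⟩` -/
structure Bar (κ : UT →* H) (s : H) : Prop extends Tw κ s where
  ker : ∀ x, κ x = 1 ↔ x ∈ ZU
  syl : IsSyl 2 (κ.range ⊔ zpowers s) ⊤
  c1 : ∀ g x y, Cg κ g x y → x ∈ D0 → x ∉ ZU → y * y = 1 ∧ ¬ R1 y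
  c2 : ∀ g y, Cg κ g (of 32) y → y ∉ DD
  c3 : ∀ g, g * κ (of 32) * g⁻¹ ≠ s

theorem Bar.kz (d : Bar κ s) : κ z = 1 := (d.ker z).2 ((mem_ZU z).2 (.inr rfl))

theorem Bar.ss (d : Bar κ s) : s * s = 1 := d.sq.elim id fun e => e.trans d.kz

theorem Bar.eq_iff (d : Bar κ s) : κ x = κ y ↔ x = y ∨ x = y * z := by
  rw [← inv_mul_eq_one.trans eq_comm, ← map_inv, ← map_mul, d.ker, mem_ZU, inv_mul_eq_one,
    inv_mul_eq_iff_eq_mul, eq_comm]

theorem Bar.card_map [Finite H] (d : Bar κ s) (hY : z ∈ Y) : Nat.card (Y.map κ) * 2 = Nat.card Y := by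
  have e : κ.ker = ZU := Subgroup.ext d.ker
  have c : Nat.card ZU = 2 := (card_of (· ∈ ZU)).trans (by decide +kernel)
  have l : ZU ≤ Y := fun x hx => ((mem_ZU x).1 hx).elim (· ▸ one_mem _) (· ▸ hY)
  rw [← relIndex_ker, e, ← c, mul_comm, ← Nat.card_congr (subgroupOfEquivOfLe l).toEquiv]
  exact card_mul_index _

end

variable {G : Type*} [Group G]

/-- an outer element swapping `E` and `F` -/
structure Ta (ι : UT →* G) (τ : G) : Prop where
  inj : Function.Injective ι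
  out : τ ∉ ι.range
  nm : τ ∈ 𝐍[ι.range]
  sq2 : τ ^ 2 ∈ ι.range
  sw : cj(τ, A2.map ι) = A1.map ι
  sw' : cj(τ, A1.map ι) = A2.map ι
  sylE : IsSyl 2 ι.range 𝐍[A2.map ι]

/-- the final setting in `G` -/
structure Be (ι : UT →* G) (σ : G) : Prop extends Tw ι σ, Ta ι σ where
  zc : ∀ x, x * x = 1 → (Zc ι x ↔ R1 x)

theorem zz (ι : UT →* G) : ι z * ι z = 1 := by rw [← map_mul, z_sq, map_one]

end Cfsg.Agent.K16
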