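import Cfsg.Agent.K16.BtDef

/-! S1918, case `β`: finite facts, part A (used in BtA1, BtA2, BtB). -/

set_option autoImplicit false
set_option linter.unusedSectionVars false

namespace Cfsg.Agent.K16

open Subgroup Cfsg.Agent.Comp Cfsg.Agent.He5 Cfsg.Agent.SylT Cfsg.Agent.SylT.UT Cfsg.Agent.PLocal
  Cfsg.Agent.PLocal.Amb Cfsg.Agent.Gold

/-- `E F` -/
abbrev EF : Subgroup UT := msk 524290 (by decide +kernel)

theorem card_EF : Nat.card EF = 256 := (card_of (· ∈ EF)).trans (by decide +kernel)

theorem index_EF : EF.index = 4 := by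
  have := EF.card_mul_index
  rw [card_EF, UT.card_eq] at this
  omega

theorem card_A12 : Nat.card ↥(A1 ⊓ A2) = 16 := (card_of fun x => x ∈ A1 ∧ x ∈ A2).trans (by decide +kernel)

theorem fa_inv : ∀ x : UT, x ∈ EF → x * x = 1 → x ∈ A1 ∨ x ∈ A2 := by decide +kernel

theorem fa_c4' : ∀ x : UT, x ∉ EF →
    (cntPow 10 fun k => decide (of k ∈ A1 ∧ of k ∈ A2 ∧ of k * x = x * of k)) ≤ 4 := by decide +kernel

theorem fa_c4 {x : UT} (h : x ∉ EF) : Nat.card ↥(A1 ⊓ A2 ⊓ 𝐜[x]) ≤ 4 := by
  refine le_trans (le_of_eq ?_) (fa_c4' x h)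
  rw [← card_of fun y => y ∈ A1 ∧ y ∈ A2 ∧ y * x = x * y]
  exact Nat.card_congr (Equiv.subtypeEquivRight fun y => by
    rw [mem_inf, mem_inf, mem_centralizer_singleton_iff, and_assoc])

theorem fa_w : ∀ x : UT, x ∈ A2 → ∀ y : UT, y ∈ A1 →
    x * y * (x * y) ≠ of 40 ∧ y * x * (y * x) ≠ of 40 := by decide +kernel

theorem fa_z : of 2 ∈ A1 ∧ of 256 ∈ A2 ∧ of 2 * of 256 * (of 2 * of 256) = z ∧ of 40 ∈ A1 ∧ of 40 ∈ A2 ∧
    A1 ≠ A2 := by
  refine ⟨by decide +kernel, by decide +kernel, by decide +kernel, by decide +kernel, by decide +kernel,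
    fun e => ?_⟩
  have : of 2 ∈ A2 := e ▸ (by decide +kernel : of 2 ∈ A1)
  revert this; decide +kernel

theorem gm_A : ∀ x : UT, (x ∈ A1 → gm x ∈ A2) ∧ (x ∈ A2 → gm x ∈ A1) := by decide +kernel

instance normal_A2 : A2.Normal := ⟨fun u hu x => by
  refine ut_ind (R := fun x => ∀ u ∈ A2, x * u * x⁻¹ ∈ A2) (fun u hu => by simpa using hu)
    (fun {a b} ha hb u hu => by simpa [mul_assoc] using ha _ (hb u hu)) (by decide +kernel) x u hu⟩

instance normal_A1 : A1.Normal := ⟨fun u hu x => by
  refine ut_ind (R := fun x => ∀ u ∈ A1, x * u * x⁻¹ ∈ A1) (fun u hu => by simpa using hu)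
    (fun {a b} ha hb u hu => by simpa [mul_assoc] using ha _ (hb u hu)) (by decide +kernel) x u hu⟩

def PT : ℕ := 0xbe0000000000bd00bc0000000000bb000000000000000000000000000000000000000000000000000000000000000000bab900b80000b700b6b500b40000b300b20000000000b100b00000000000af0000000000000000000000000000000000000000000000000000000000000000aead00000000acabaaa900000000a8a7000000000000000000000000000000000000000000000000000000000000000000000000000000000000000000000000000000000000000000000000000000000000000000000000000000000000000000000000000000000000000000000000000000000000000000000000000000000000000000000000000000000000000000000000000000000000000000000000000000000000000000000000000000000000000000a600a50000000000a400a3a200a10000a0009f9e009d00009c009b000000000000000000000000000000000000000000000000000000000000000000000000009a009900000000009800970000000096959493000000009291908f000000000000000000000000000000008e00008d8c00008b8a00008988000087000000000000000000000000000000000000008600000085000000840000008300000000000000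0000000000000000000000008200000081000000800000007f0000000000000000000000000000000000007e7d00007c7b00007a7900007877000000000000000000000000000000000000007600000075000000740000007300000000000000000000000000000000720000717000006f6e00006d6c00006b000000000000000000000000000000000000006a000000690000006800000067000000000000000000000000000000000000666500006463000062610000605f000000000000000000000000000000000000005e0000005d0000005c0000005b000000000000000000000000000000000000005a000000590000005800000057000000000000000000000000000000005600005554000053520000515000004f0000000000000000000000000000000000004e4d00004c4b00004a49000048470046004500440043004200410040003f003e003d003c003b003a0039003800370036003500340033003200310030002f002e002d002c002b002a0029002800270026002500240023002200210020001f001e001d001c001b001a0019001800170016001500140013001200110010000f0e0d0c0b0a0908070605040302010000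
def KT : ℕ := 0x418331e0c28c3061c23830262c18618a0a30c5033062830c30c38618a1a30c50b3062830c11c18710e1c28c3060c27830232c1c22920c11cd0130e6830470c3c22921c11cd0930e6830413c08373e0468c3023c238102e6c1c418a0a21cd023862811c30c3c418a1a21cd0a3862811c11c08f10e1468c3020c2f810236c0c26b20413dd0119ac8104f0c2c26b21413dd0919ac810417c30610e1830c30c3843860c20c30e1061830870c1841860c11c10518a1819c30c1c62860251c30508e1838c30c0ce6860253430231e1811c30c28c7860460c30a30618118f0c08c1860413c10331e0828c3041c23820262c1c618a0830c5033862820c30c3c618a1830c50b3862820c11c10710e1828c3040c27820232c14239a0811cd0128e6820470c34239a1811cd0928e6820413c10339a0838c3041423820253410718a0819c3041422820251c11e106083087047843820c20c10610e0830c3041841820c11c11a30608118f0468c7820460c10231e0811c30408c1820413c3841861c20870e2043870820c38410e1c40830c1061870811c30410e1820c30c3043860820c30c1061820870c1041860811c11c1861460870a3061851820c30c1861c40c30a3043851811c18418a0820c5023062820830c38418a1820c50a3062820811c18410e0cc0830c3062830820c1841860c2087041061830811c11c106082087047043820820c10410e0820c3041041820811c30418a182045023043811820c10418a082045023061811811c3c61061c20830d08c1860820c2ce1061460830928c1820820c1c61060c20830508c1820820c0ce1060460830128c1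
def LT : ℕ := 0x41a538e0d28c3069462834a7241a508e09284706a42383ce30c3a508e1928470ee42383ce3141a510e1d28c30694c2834a6241a120e0d290706a50383ce40c3a120e1d29070ee70383ce4141a838e0d40c306a06283507241a408e0d214706a02383d030c3a408e1d21470ee02383d03141a810e1dc0c306a0c283506241ac20e0d410706b10383d040c3bc20e1dc1070ef30383d041430610e1838c30c7843860c20c31e1061830870c1841860e31410708e1831430c1823860c52430618a1830c30c18e3860c72430620e1839030c7b83860c40c31ee061831070c1881860e41410538e0828c3041462820a72418508e082847062423820e30c38508e1828470e6423820e31410510e1828c30414c2820a62418520e082907062503820e40c38520e1829070e6703820e41410638e0830c3041862820c72410608e083143041822820c52411e106083087047843820c20c10610e0838c3041841820e31411ee06083107047b83820c40c10620e083903041881820e4143841861c2087027043870820c38410e04e0830c1061870831430410e1820c30c7043860820c31c1061820870c1041860831411c1861cc0870e6061873020c31c18604e0c30e6043873031418408e082047062023820830c38408e1820470e6023820831418410e14e0830c7023830820c1841860c2087041061830831411c106082087047043820820c10410e0820c3041041820831430408e182045062043831020c10408e08204506206183103143861061c20830e1881860820c39a1061cc0830e6b01820820c1861060c2083061881820820c18a1060c4083062901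
def CT : ℕ := 0x20022002000000000000000028802880200220020000000000000000a008a00800000000000000000000000000000000000000000000000000000000000000000000000000000000002200228820882000000000000000000022002200a800a800000000c1c2c2c100000000020202020000000002020202000000000d0e0e0d000000000202020200000000828082800000000002020202000000000a080a080000000002020202000000000202020200000000c2c2c1c1000000000e0e0d0d1332233131323231331233212220222023321331323231313322331155545554

def pN (x : UT) : ℕ := Nat.land (Nat.shiftRight PT (Nat.mul (nat_lit 8) (idxT x.v))) (nat_lit 255)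
/-- the conjugating matrix -/
def kN (x : UT) : ℕ := Nat.land (Nat.shiftRight KT (Nat.mul (nat_lit 25) (pN x))) (nat_lit 33554431)
/-- its inverse -/
def lNb (x : UT) : ℕ := Nat.land (Nat.shiftRight LT (Nat.mul (nat_lit 25) (pN x))) (nat_lit 33554431)
/-- the `AG`-class of an involution -/
def cN (x : UT) : ℕ := Nat.land (Nat.shiftRight CT (Nat.mul (nat_lit 2) (idxT x.v))) (nat_lit 3)
/-- the representatives `z, x₄e₁, w = x₄e₂ + e₁, x₃e₁ + x₄e₂` -/
def rep (c : ℕ) : UT := of ([8, 4, 40, 34].getD c 0)

/-- use with `sl_mem`, `sl_cj` -/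
theorem cls_chk : ∀ x : UT, x * x = 1 → x ≠ 1 → mu (kN x) (lNb x) = o5 ∧ kN x >>> 20 = 16 ∧
    mu (kN x) x.v = mu (rep (cN x)).v (kN x) ∧ cN x < 4 ∧ (R1 x ↔ cN x < 2) := by decide +kernel

theorem not_R1_one : ¬ R1 1 := by decide +kernel

/-- the candidates for the set of conjugates of `z` -/
def Cand (b1 b3 : Bool) (x : UT) : Prop :=
  x ≠ 1 ∧ (cN x = 0 ∨ (cN x = 1 ∧ b1 = true) ∨ (cN x = 3 ∧ b3 = true))

instance instDecCand (b1 b3 : Bool) (x : UT) : Decidable (Cand b1 b3 x) := by unfold Cand; infer_instance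

theorem cand_cnt {b1 b3 : Bool}
    (h : Nat.card {x // x ∈ A2 ∧ Cand b1 b3 x} = Nat.card {x // x ∈ A1 ∧ Cand b1 b3 x}) :
    b1 = true ∧ b3 = false := by
  rw [card_of, card_of] at h
  revert b1 b3
  decide +kernel

theorem R1_gm : ∀ x : UT, R1 x → R1 (gm x) := by decide +kernel

theorem fb_gen : R1 (of 1) ∧ R1 (of 16) ∧ R1 (of 128) ∧ R1 (of 512) ∧ of 16 ∈ A1 ∧ of 128 ∈ A2 ∧
    of 1 * of 1 = 1 ∧ of 16 * of 16 = 1 ∧ of 128 * of 128 = 1 ∧ of 512 * of 512 = 1 ∧
    of 1 * of 128 = of 128 * of 1 ∧ of 1 * of 512 = of 512 * of 1 ∧ of 16 * of 512 = of 512 * of 16 := by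
  decide +kernel

/-- `x y x y` -/
noncomputable def c2 (x y : UT) : UT := x * y * (x * y)

theorem map_c2 (f : UT →* UT) (x y : UT) : f (c2 x y) = c2 (f x) (f y) := by simp only [c2, map_mul]

theorem fb_word : c2 (c2 (c2 (of 1) (of 16)) (of 128)) (of 512) = z ∧ of 2 = c2 (of 1) (of 16) ∧
    of 32 = c2 (of 16) (of 128) ∧ of 256 = c2 (of 128) (of 512) ∧ of 4 = c2 (of 2) (of 128) ∧
    of 64 = c2 (of 32) (of 512) ∧ of 8 = c2 (of 4) (of 512) := by decide +kernel

theorem ut_ext4 {f g : UT →* UT} (h1 : f (of 1) = g (of 1)) (h2 : f (of 16) = g (of 16))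
    (h3 : f (of 128) = g (of 128)) (h4 : f (of 512) = g (of 512)) : f = g := by
  obtain ⟨-, e1, e2, e3, e4, e5, e6⟩ := fb_word
  have k1 : f (of 2) = g (of 2) := by rw [e1, map_c2, map_c2, h1, h2]
  have k2 : f (of 32) = g (of 32) := by rw [e2, map_c2, map_c2, h2, h3]
  have k3 : f (of 256) = g (of 256) := by rw [e3, map_c2, map_c2, h3, h4]
  have k4 : f (of 4) = g (of 4) := by rw [e4, map_c2, map_c2, k1, h3]
  have k5 : f (of 64) = g (of 64) := by rw [e5, map_c2, map_c2, k2, h4]
  have k6 : f (of 8) = g (of 8) := by rw [e6, map_c2, map_c2, k4, h4]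
  refine ut_ext fun b hb => ?_
  simp only [BL, List.mem_cons, List.not_mem_nil, or_false] at hb
  rcases hb with rfl | rfl | rfl | rfl | rfl | rfl | rfl | rfl | rfl | rfl <;> assumption

theorem fb_quad' : ∀ b ∈ LR1, b ∈ A1 → ∀ c ∈ LR1, c ∈ A2 → ∀ a ∈ LR1, a * c = c * a →
    c2 (c2 a b) c ≠ 1 → ∀ d ∈ LR1, a * d = d * a → b * d = d * b → c2 (c2 (c2 a b) c) d ≠ 1 →
    ∃ g1 ∈ [0, 16, 32, 48, 64, 80, 96, 112].map of, g1 * a = of 1 * g1 ∧
    ∃ g2 ∈ [0, 1, 128, 129, 256, 257, 384, 385].map of, g2 * g1 * b = of 16 * (g2 * g1) ∧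
    ∃ g3 ∈ [0, 2, 512, 514].map of, g3 * (g2 * g1) * c = of 128 * (g3 * (g2 * g1)) ∧
    ∃ g4 ∈ [0, 4].map of, g4 * (g3 * (g2 * g1)) * d = of 512 * (g4 * (g3 * (g2 * g1))) ∧
      g4 * (g3 * (g2 * g1)) * a = of 1 * (g4 * (g3 * (g2 * g1))) ∧
      g4 * (g3 * (g2 * g1)) * b = of 16 * (g4 * (g3 * (g2 * g1))) ∧
      g4 * (g3 * (g2 * g1)) * c = of 128 * (g4 * (g3 * (g2 * g1))) := by decide +kernel

/-- an injective endomorphism preserving `R1`, `A1`, `A2` is inner -/
theorem fb_inner {f : UT →* UT} (i : Function.Injective f) (h : ∀ x, x * x = 1 → R1 x → R1 (f x))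
    (h1 : ∀ x ∈ A1, f x ∈ A1) (h2 : ∀ x ∈ A2, f x ∈ A2) : ∃ g, ∀ x, g * f x * g⁻¹ = x := by
  obtain ⟨r1, r2, r3, r4, m1, m2, s1, s2, s3, s4, e1, e2, e3⟩ := fb_gen
  have w : c2 (c2 (c2 (f (of 1)) (f (of 16))) (f (of 128))) (f (of 512)) ≠ 1 := by
    rw [← map_c2, ← map_c2, ← map_c2, fb_word.1]
    exact fun e => z_ne (i (e.trans (map_one f).symm))
  obtain ⟨g1, -, -, g2, -, -, g3, -, -, g4, -, k4, k1, k2, k3⟩ := fb_quad' _ (mem_LR1 _ (h _ s2 r2)) (h1 _ m1)
    _ (mem_LR1 _ (h _ s3 r3)) (h2 _ m2) _ (mem_LR1 _ (h _ s1 r1)) (by rw [← map_mul, e1, map_mul])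
    (fun e => w (by rw [e, c2, one_mul, ← map_mul, s4, map_one])) _ (mem_LR1 _ (h _ s4 r4))
    (by rw [← map_mul, e2, map_mul]) (by rw [← map_mul, e3, map_mul]) w
  generalize g4 * (g3 * (g2 * g1)) = g at *
  have := ut_ext4 (f := (MulAut.conj g).toMonoidHom.comp f) (g := MonoidHom.id UT)
    (mul_inv_eq_iff_eq_mul.2 k1) (mul_inv_eq_iff_eq_mul.2 k2) (mul_inv_eq_iff_eq_mul.2 k3)
    (mul_inv_eq_iff_eq_mul.2 k4)
  exact ⟨g, fun x => DFunLike.congr_fun this x⟩

end Cfsg.Agent.K16
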