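import Cfsg.Agent.K16.GDef

/-! S1918: finite facts for the API of types. -/

set_option autoImplicit false
set_option maxRecDepth 100000

namespace Cfsg.Agent.K16

open Subgroup Cfsg.Agent.Comp Cfsg.Agent.He5 Cfsg.Agent.SylT Cfsg.Agent.SylT.UT Cfsg.Agent.PLocal
  Cfsg.Agent.PLocal.Amb Cfsg.Agent.Gold Cfsg.Agent.RuT

theorem ty_red : ∀ x ∈ UT.E, x = 1 ∨ ∃ k ∈ [1, 2, 4, 8, 64, 256, 512], of k ∈ UT.E ∧ of k * of k = 1 ∧
    idxT (of k * x).v < idxT x.v := by decide +kernel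

theorem ty_hom : ∀ k ∈ [1, 2, 4, 8, 64, 256, 512], ∀ x ∈ UT.E, ∀ m < 64,
    tyA m (of k * x) = tyA m (of k) * tyA m x := by decide +kernel

theorem ty_E : ∀ x ∈ UT.E, tyA 0 x = x ∧ ∀ m < 64, tyA m x ∈ UT.E ∧ tyA m (tyA m x) = x := by decide +kernel

theorem ty_AS : ∀ x ∈ AS, x ∈ UT.E ∧ ∀ m < 64, tyA m x = x := by decide +kernel

theorem ty_AU : ∀ x ∈ AU, x ∈ UT.E ∧ (∀ m < 8, tyA m x ∈ AU) ∧
    ((∀ k ∈ [1, 2, 4], x * of k = of k * x) → x = 1 ∨ x = z) := by decide +kernel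

theorem ty_z : of 8 = of 1 * of 64 * (of 1 * of 64) ∧ of 8 ∈ AS ∧ of 1 ∈ AS ∧ of 2 ∈ AS ∧ of 4 ∈ AS ∧
    ∀ m < 64, of 8 = tyA m (of 1) * tyA m (of 64) * (tyA m (of 1) * tyA m (of 64)) := by decide +kernel

theorem ty_xor : ∀ k ∈ [1, 2, 4, 64, 256, 512], of k ∈ UT.E ∧ ∀ m < 64, ∀ m' < 64,
    tyA m (tyA m' (of k)) = tyA (m ^^^ m') (of k) := by decide +kernel

theorem ty_uq : ∀ m < 64, ∀ m' < 64, (∀ k ∈ [1, 2, 4, 64, 256, 512], tyA m (of k) = tyA m' (of k)) → m = m' := by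
  decide +kernel

theorem ty_as : ∀ y < 16, ∀ x ∈ UT.E, of y * x = tyA (y % 8) x * of y := by decide +kernel

theorem ty_cj : ∀ p ∈ [(17043649, [3, 2, 4, 8, 24, 34]), (17051713, [1, 6, 4, 12, 16, 48]),
    (17045569, [1, 3, 4, 24, 16, 33]), (17174593, [1, 2, 6, 10, 48, 32])], (∀ m < 64, lN p.2 m < 64) ∧
    ∀ k ∈ [1, 2, 4, 64, 256, 512], cjN p.1 (of k) ∈ UT.E ∧ cjN p.1 (cjN p.1 (of k)) = of k ∧
      ∀ m < 64, cjN p.1 (tyA m (cjN p.1 (of k))) = tyA (lN p.2 m) (of k) := by decide +kernel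

theorem ty_ck : ∀ k ∈ [17043649, 17051713, 17045569, 17174593], ∀ x ∈ UT.E, cjN k x ∈ UT.E ∧
    (x ∈ AS → cjN k x ∈ AS) := by decide +kernel

theorem ty_nm : ∀ b ∈ BL, ∀ x ∈ UT.E, of b * x * (of b)⁻¹ ∈ UT.E ∧ (x ∈ AS → of b * x * (of b)⁻¹ ∈ AS) := by
  decide +kernel

theorem ty_fa : ∀ k ∈ [64, 256, 512], of k ∈ UT.E ∧ of k * of k = 1 ∧
    (∀ a ∈ [1, 2, 4], of a ∈ AS ∧ of k * of a * of k ∈ AS) ∧
    ∀ y ∈ UT.E, (∀ a ∈ [1, 2, 4], y * of a = of k * of a * of k * y) → ∃ i < 16, y = of (k + i) := by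
  decide +kernel

set_option synthInstance.maxSize 2000 in
set_option synthInstance.maxHeartbeats 200000 in
theorem ty_fb : ∀ i < 16, of (64 + i) * of (64 + i) = 1 → ∀ j < 16, (of (256 + j) * of (256 + j) = 1 ∧
    of (64 + i) * of (256 + j) = of (256 + j) * of (64 + i)) → ∀ l < 16, (of (512 + l) * of (512 + l) = 1 ∧
    of (64 + i) * of (512 + l) = of (512 + l) * of (64 + i) ∧
    of (256 + j) * of (512 + l) = of (512 + l) * of (256 + j)) →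
    ∃ m < 64, tyA m (of 64) = of (64 + i) ∧ tyA m (of 256) = of (256 + j) ∧ tyA m (of 512) = of (512 + l) := by
  decide +kernel

theorem ty_fc : of 64 * of 256 = of 256 * of 64 ∧ of 64 * of 512 = of 512 * of 64 ∧
    of 256 * of 512 = of 512 * of 256 := by decide +kernel

theorem ty_fd : ∀ m < 8, of m ∈ AS ∧ of m * of m = 1 ∧ of m * z = of (m + 8) := by decide +kernel

end Cfsg.Agent.K16
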